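import Cfsg.Agent.LES.Janko
import Cfsg.Agent.LES.OddUtil
import Cfsg.Agent.Spor.OutJ3

/-!
# Sylow 17- and 19-normalizers in groups of type `J₃`
-/

set_option autoImplicit false

namespace Cfsg.Agent.LES

open Subgroup Cfsg Cfsg.Agent.TT Equiv

variable {G : Type*} [Group G]

theorem isCyclic_mulAut_of_prime {X : Type*} [Group X] {p : ℕ} [hp : Fact p.Prime]
    (h : Nat.card X = p) : IsCyclic (MulAut X) := by
  have : IsCyclic X := isCyclic_of_prime_card h
  have e := IsCyclic.mulAutMulEquiv X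
  rw [h] at e
  exact e.isCyclic.mpr inferInstance

theorem isCyclic_normalizer_quot {X : Subgroup G} {p : ℕ} [Fact p.Prime] (h : Nat.card X = p) :
    IsCyclic (normalizer (X : Set G) ⧸ X.normalizerMonoidHom.ker) := by
  have := isCyclic_mulAut_of_prime h
  exact isCyclic_of_injective _ (QuotientGroup.kerLift_injective X.normalizerMonoidHom)

/-- The shape `p : m` of the normalizer of a self-centralizing subgroup of prime order. -/
theorem quot_shape {X : Subgroup G} {p m : ℕ} [Fact p.Prime] (h : Nat.card X = p)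
    (hC : centralizer (X : Set G) = X)
    (hm : (centralizer (X : Set G)).relIndex (normalizer (X : Set G)) = m) :
    ∃ _ : (X.subgroupOf (normalizer (X : Set G))).Normal,
      IsCyclic (normalizer (X : Set G) ⧸ X.subgroupOf _) ∧
      Nat.card (normalizer (X : Set G) ⧸ X.subgroupOf _) = m := by
  have hk : X.normalizerMonoidHom.ker = X.subgroupOf _ := by rw [normalizerMonoidHom_ker, hC]
  have hn : (X.subgroupOf (normalizer (X : Set G))).Normal := hk ▸ inferInstance
  refine ⟨hn, ?_, ?_⟩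
  · exact (QuotientGroup.quotientMulEquivOfEq hk).isCyclic.mp (isCyclic_normalizer_quot h)
  · rw [hC] at hm
    exact hm

/-- Arithmetic of a Sylow subgroup of prime order in a simple group. -/
theorem sylow_arith [Finite G] [IsSimpleGroup G] (hG : ¬ IsMulCommutative G) {p : ℕ}
    [hp : Fact p.Prime] (X : Sylow p G) (h : Nat.card (X : Subgroup G) = p) :
    ∃ r k m, Nat.card G = r * (p * k * m) ∧ r ≡ 1 [MOD p] ∧ m ∣ p - 1 ∧ m ≠ 1 ∧
      Nat.card (centralizer ((X : Subgroup G) : Set G)) = p * k ∧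
      (centralizer ((X : Subgroup G) : Set G)).relIndex
        (normalizer ((X : Subgroup G) : Set G)) = m ∧ (∃ g : G, m ∣ orderOf g) ∧
      (k = 1 → centralizer ((X : Subgroup G) : Set G) = X) := by
  have hcyc : IsCyclic (X : Subgroup G) := isCyclic_of_prime_card h
  have hle : (X : Subgroup G) ≤ centralizer ((X : Subgroup G) : Set G) := fun x hx y hy =>
    congrArg Subtype.val (IsCyclic.isMulCommutative.is_comm.comm (⟨y, hy⟩ : (X : Subgroup G)) ⟨x, hx⟩)
  obtain ⟨k, hk⟩ := card_dvd_of_le hle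
  rw [h] at hk
  refine ⟨Nat.card (Sylow p G), k, _, ?_, card_sylow_modEq_one p G, ?_, ?_, hk, rfl, ?_, ?_⟩
  · rw [← hk, Small.card_centralizer_mul_relIndex, Small.card_sylow_mul_card_normalizer]
  · have := Small.relIndex_centralizer_dvd_card_mulAut (X : Subgroup G)
    rwa [IsCyclic.card_mulAut, h, Nat.totient_prime hp.out] at this
  · rw [Ne, relIndex_eq_one]
    exact Small.not_normalizer_le_centralizer hG X (h ▸ card_subgroup_dvd_card _)
  · obtain ⟨q, hq⟩ := (isCyclic_normalizer_quot h).exists_generator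
    obtain ⟨g, rfl⟩ := QuotientGroup.mk_surjective q
    refine ⟨g, ?_⟩
    have h1 := orderOf_eq_card_of_forall_mem_zpowers hq
    have h2 := orderOf_map_dvd (QuotientGroup.mk' (X : Subgroup G).normalizerMonoidHom.ker) g
    rw [QuotientGroup.mk'_apply, h1, normalizerMonoidHom_ker] at h2
    rw [Subgroup.orderOf_coe]
    exact h2
  · rintro rfl
    exact (eq_of_le_of_card_ge hle (by rw [hk, h, mul_one])).symm

theorem j3_cent19 (h : Spor.IsoJ3 G) :
    ∃ a : G, orderOf a = 19 ∧ ∀ x, x * a = a * x → x ∈ zpowers a := by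
  open Cfsg.Agent.Comp Cfsg.Agent.Spor.OutJ3 in
  obtain ⟨e⟩ := Spor.ModelJ3.isoJ3_iff.1 h
  replace e := e.trans (MulEquiv.subgroupCongr geq)
  have ha : wp ns [4] ∈ gen ns [[0], [2]] := kG_0.word (by decide +kernel)
  have h1 := od_chk
  simp only [OD.chk, and'_eq_true] at h1
  obtain ⟨h1, ⟨h2, h2'⟩, -⟩ := h1
  have : Fact (Nat.Prime 19) := ⟨by norm_num⟩
  have ho : orderOf (wp ns [4]) = 19 := by
    refine orderOf_eq_prime ?_ ?_
    · have := wp_eq_of_eqW ctx h1
      rwa [wp_powW, wp_nil] at this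
    · exact fun e => ne_of_movesW ctx h2' (by simpa using h2) (by rw [show od.a = [4] from rfl, e]; rfl)
  refine ⟨e.symm ⟨_, ha⟩, ?_, fun x hx => ?_⟩
  · rw [MulEquiv.orderOf_eq, ← Subgroup.orderOf_coe, ho]
  · have h3 := CA.cent (e x) (e x).2 (by
      have := congrArg (fun y => ((e y : gen ns [[0], [2]]) : Perm ℕ)) hx
      simpa using this)
    have h4 : gen ns [[4]] = zpowers (wp ns [4]) := by
      simp [gen, zpowers_eq_closure]
    rw [h4] at h3
    obtain ⟨n, hn⟩ := h3
    refine ⟨n, e.injective (Subtype.ext ?_)⟩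
    simpa using hn

theorem perm5_sixteen : ∀ σ : Perm (Fin 5), σ ^ 16 = 1 → Perm.sign σ = 1 → σ * σ = 1 := by
  decide +kernel

variable {Q : Subgroup G} {z : G} {a : Fin 5 → G} {π : centralizer ({z} : Set G) →* Perm (Fin 5)}

theorem HJ.not_sixteen_dvd [Finite G] (d : HJ Q z a π)
    (h : ∀ x y : G, orderOf x = 2 → orderOf y = 2 → IsConj x y) (g : G) : ¬ 16 ∣ orderOf g := by
  intro hg
  have hu : orderOf (g ^ (orderOf g / 16)) = 16 := orderOf_pow_orderOf_div (orderOf_pos g).ne' hg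
  generalize g ^ (orderOf g / 16) = u at hu
  have h8 : orderOf (u ^ 8) = 2 := by rw [orderOf_pow' _ (by norm_num), hu]; norm_num
  obtain ⟨c, hc⟩ := isConj_iff.mp (h _ _ h8 d.xs.orderOf_z)
  have hv : orderOf (c * u * c⁻¹) = 16 := by
    rw [← hu]; exact (MulAut.conj c).orderOf_eq u
  have h1 : (c * u * c⁻¹) ^ 8 = z := by rw [conj_pow, hc]
  generalize c * u * c⁻¹ = v at hv h1
  have hm : v ∈ centralizer ({z} : Set G) := mem_centralizer_singleton_iff.mpr (by
    rw [← h1, ← pow_succ, ← pow_succ'])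
  have h2 := perm5_sixteen (π ⟨v, hm⟩) (by
    rw [← map_pow, show (⟨v, hm⟩ : centralizer ({z} : Set G)) ^ 16 = 1 from
      Subtype.ext (by simpa using hv ▸ pow_orderOf_eq_one v), map_one]) (d.sign_π _)
  rw [← map_mul, d.ker] at h2
  have h3 := d.xs.pow_four h2
  refine d.xs.z_ne ?_
  rw [← h1, ← h3]
  simp [← pow_two, ← pow_mul]

theorem HJ.not_dvd_card_cent [Finite G] (d : HJ Q z a π)
    (h : ∀ x y : G, orderOf x = 2 → orderOf y = 2 → IsConj x y) {Y : Subgroup G}
    (hY : ¬ Nat.card Y ∣ 1920) : ¬ 2 ∣ Nat.card (centralizer (Y : Set G)) := by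
  intro h2
  obtain ⟨w, hw, ho⟩ := exists_mem_orderOf Nat.prime_two h2
  obtain ⟨c, hc⟩ := isConj_iff.mp (h _ _ d.xs.orderOf_z ho)
  refine hY ?_
  rw [← d.card_H, ← card_cent_conj c z, hc]
  exact card_dvd_of_le fun y hy => mem_centralizer_singleton_iff.mpr (hw y hy)

theorem HJ.sylow19 [Finite G] [IsSimpleGroup G] (d : HJ Q z a π)
    (h : ∀ x y : G, orderOf x = 2 → orderOf y = 2 → IsConj x y) (X : Sylow 19 G) :
    Nat.card (X : Subgroup G) = 19 ∧ centralizer ((X : Subgroup G) : Set G) = X ∧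
      (centralizer ((X : Subgroup G) : Set G)).relIndex
        (normalizer ((X : Subgroup G) : Set G)) = 9 := by
  have : Fact (Nat.Prime 19) := ⟨by norm_num⟩
  have hJ := d.isoJ3_of_simple h
  have hG := card_of_isoJ3 hJ
  have hX : Nat.card (X : Subgroup G) = 19 :=
    Small.card_sylow_subgroup (k := 1) (m := 2643840) hG (by norm_num) X
  obtain ⟨r, k, m, h1, h2, h3, -, h5, h6, -, h8⟩ :=
    sylow_arith (Small.not_comm_of_card (by rw [hG]; norm_num)) X hX
  obtain ⟨b, hb, hc⟩ := j3_cent19 hJ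
  have hk : k = 1 := by
    obtain ⟨y, hy, ho⟩ := exists_mem_orderOf (K := (X : Subgroup G)) (r := 19) (by norm_num) (by rw [hX])
    obtain ⟨c, -, hc'⟩ := exists_conj_mem_zpowers (M := ⊤) (mem_top b) hb
      (by rw [card_top, hG]; norm_num) (mem_top y) (ho ▸ pow_orderOf_eq_one y)
    have h9 : centralizer ({c * y * c⁻¹} : Set G) = centralizer {b} := cent_eq_of_prime hb hc' (by
      intro e
      rw [mul_inv_eq_one, mul_eq_left] at e
      simp [e] at ho)
    have h10 : Nat.card (centralizer ({b} : Set G)) ≤ 19 := by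
      rw [← hb, ← Nat.card_zpowers]
      exact card_le_of_le fun x hx => hc x (mem_centralizer_singleton_iff.mp hx)
    have h11 : Nat.card (centralizer ((X : Subgroup G) : Set G)) ≤
        Nat.card (centralizer ({y} : Set G)) :=
      card_le_of_le (centralizer_le (Set.singleton_subset_iff.mpr hy))
    rw [← card_cent_conj c y, h9, h5] at h11
    have : 0 < 19 * k := h5 ▸ Nat.card_pos
    omega
  subst hk
  refine ⟨hX, h8 rfl, h6.trans ?_⟩
  rw [hG] at h1
  have h12 := Nat.le_of_dvd (by norm_num) h3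
  unfold Nat.ModEq at h2
  interval_cases m <;> omega

theorem HJ.sylow17 [Finite G] [IsSimpleGroup G] (d : HJ Q z a π)
    (h : ∀ x y : G, orderOf x = 2 → orderOf y = 2 → IsConj x y) (Y : Sylow 17 G) :
    Nat.card (Y : Subgroup G) = 17 ∧ centralizer ((Y : Subgroup G) : Set G) = Y ∧
      (centralizer ((Y : Subgroup G) : Set G)).relIndex
        (normalizer ((Y : Subgroup G) : Set G)) = 8 := by
  have : Fact (Nat.Prime 17) := ⟨by norm_num⟩
  have : Fact (Nat.Prime 19) := ⟨by norm_num⟩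
  have hG := card_of_isoJ3 (d.isoJ3_of_simple h)
  have hY : Nat.card (Y : Subgroup G) = 17 :=
    Small.card_sylow_subgroup (k := 1) (m := 2954880) hG (by norm_num) Y
  obtain ⟨r, k, m, h1, h2, h3, h4, h5, h6, ⟨g, h7⟩, h8⟩ :=
    sylow_arith (Small.not_comm_of_card (by rw [hG]; norm_num)) Y hY
  have hk2 : ¬ 2 ∣ k := fun e => d.not_dvd_card_cent h (Y := Y) (by rw [hY]; norm_num)
    (h5 ▸ e.mul_left _)
  have hk19 : ¬ 19 ∣ k := fun e => by
    obtain ⟨w, hw, ho⟩ := exists_mem_orderOf (K := centralizer ((Y : Subgroup G) : Set G))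
      (r := 19) (by norm_num) (h5 ▸ e.mul_left _)
    obtain ⟨X, hX⟩ := (isPGroup_zpowers_prime ho).exists_le_sylow
    obtain ⟨e1, e2, -⟩ := d.sylow19 h X
    have e3 : zpowers w = X := eq_of_le_of_card_ge hX (by rw [e1, Nat.card_zpowers, ho])
    have e4 : (Y : Subgroup G) ≤ X := by
      rw [← e2, ← e3, centralizer_zpowers_eq]
      exact fun y hy => mem_centralizer_singleton_iff.mpr (hw y hy)
    have := card_dvd_of_le e4
    rw [hY, e1] at this
    norm_num at this
  have h16 : m ≠ 16 := fun e => d.not_sixteen_dvd h g (e ▸ h7)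
  rw [hG] at h1
  have h9 : 2954880 = r * k * m := by nlinarith
  have hk : k ∣ 1215 := by
    have e1 : k ∣ 2 ^ 7 * (19 * 1215) := ⟨r * m, by rw [← mul_assoc k, mul_comm k r, ← h9]; norm_num⟩
    exact (Nat.Coprime.symm ((Nat.Prime.coprime_iff_not_dvd (by norm_num)).mpr hk19)).dvd_of_dvd_mul_left
      ((Nat.Coprime.pow_right 7 (Nat.Coprime.symm
        ((Nat.Prime.coprime_iff_not_dvd Nat.prime_two).mpr hk2))).dvd_of_dvd_mul_left e1)
  have h10 : k * m % 17 = 8 := by
    have e1 : r * (k * m) ≡ 1 * (k * m) [MOD 17] := h2.mul_right _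
    rw [← mul_assoc, ← h9, one_mul] at e1
    exact e1.symm
  have key : ∀ k ∈ Nat.divisors 1215, ∀ m ∈ Nat.divisors 16, k * m % 17 = 8 → m ≠ 1 → m ≠ 16 →
      k = 1 ∧ m = 8 := by decide +kernel
  obtain ⟨rfl, rfl⟩ := key k (by simp [hk]) m (by simpa using h3) h10 h4 h16
  exact ⟨hY, h8 rfl, h6⟩

end Cfsg.Agent.LES
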